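import Groth.Agent.S18724
import Groth.Agent.S0385
import Groth.Agent.PerfA.TildeSupp
import Groth.Agent.CohqA.FTStalk
import Groth.Agent.Gaga.H883.Serre
import Groth.Agent.Localalg.DepthLC
import Groth.Agent.Localalg.HVLC
import Groth.Agent.LoccohA.LES2
import Groth.Agent.Gaga.H883.SerreRel
import Groth.Agent.Ega3B.RpushAbCmp
import Groth.Agent.Ega3B.DevQC
import Groth.Agent.CohqA.HOpen
import Groth.Agent.Flat2B.ExtZero
import Groth.Agent.S2310
import Groth.Agent.PerfC.PushRestrict

/-!
# A coherent module with coherent acyclic direct image on an open subscheme of an affine scheme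

`isClosed_range`: `j : V ⟶ Spec B` a quasi-compact open immersion, `B` Noetherian, `K` quasi-coherent on `V` with full
support, `j_* K` coherent and `H^q(V, K) = 0` for `q > 0`: then `V` is closed (all local cohomology of `j_* K` along the
complement vanishes, so the complement does not meet the support).
-/

set_option autoImplicit false
universe u
open CategoryTheory CategoryTheory.Limits AlgebraicGeometry TopologicalSpace Opposite

namespace K135.FinAcyc

section Alg

open Groth.Agent.Localalg.DeltaFun Groth.Agent.Localalg.Gam Groth.Agent.Localalg.LCAbs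
open Groth.Agent.FormalA.HUBasic Groth.Agent.FormalA.TildeAb Groth.Agent.Localalg.HSupp
open Groth.Agent.Localalg.HVLC

attribute [local instance 3000] hasSheafify hasExt

variable {B : Type u} [CommRing B] [IsNoetherianRing B] (I : Ideal B) (M : Type u) [AddCommGroup M] [Module B M]

theorem supportDim_lt_top [Module.Finite B M] (p : PrimeSpectrum B) :
    Module.supportDim (Localization.AtPrime p.asIdeal) (LocalizedModule p.asIdeal.primeCompl M) < ⊤ := by
  refine lt_of_le_of_lt (Module.supportDim_le_ringKrullDim _ _) ?_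
  exact ringKrullDim_lt_top

theorem notMem_support [Module.Finite B M]
    (h0 : Function.Injective (toSec (ModuleCat.of B M) (LocCoh.puncturedOpen B I)))
    (h1 : Function.Surjective (toSec (ModuleCat.of B M) (LocCoh.puncturedOpen B I)))
    (h2 : ∀ (n : ℕ) (x : E ((tAb B).obj (ModuleCat.of B M)) (n + 1) (LocCoh.puncturedOpen B I)), x = 0)
    (p : PrimeSpectrum B) (hIp : I ≤ p.asIdeal) : p ∉ Module.support B M := by
  intro hp
  have hI : I.FG := IsNoetherian.noetherian I
  have hle := Groth.Agent.S18724.result B M I p hIp hp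
  have hlt := lt_of_le_of_lt hle (supportDim_lt_top M p)
  have hne : LocCoh.idealDepth I M ≠ ⊤ := by
    intro h
    rw [h] at hlt
    exact absurd hlt (lt_irrefl _)
  obtain ⟨n, hn⟩ := ENat.ne_top_iff_exists.mp hne
  have hnt := Groth.Agent.Localalg.DepthLC.nontrivial_H_idealDepth I M n hn.symm
  have key : Subsingleton (LocCoh.H I n M) := by
    match n with
    | 0 =>
      have e := Groth.Agent.LoccohA.LES.equivGam I M
      refine ⟨fun a b => e.injective (Subtype.ext ?_)⟩
      have h3 : ∀ x : gam I M, (x : M) = 0 := by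
        intro x
        apply h0
        rw [map_zero]
        exact (toSec_eq_zero_iff hI (ModuleCat.of B M) (x : M)).2 x.2
      rw [h3, h3]
    | 1 =>
      obtain ⟨d, -, hd, hs⟩ := exists_bd I
      refine ⟨fun a b => ?_⟩
      have h3 : ∀ x : (localCohomology.{u} I 1).obj (ModuleCat.of B M), x = 0 := by
        intro x
        obtain ⟨s, rfl⟩ := hs _ x
        exact (hd _ s).2 (h1 s)
      exact (h3 a).trans (h3 b).symm
    | n + 2 =>
      obtain ⟨e, -, -⟩ := exists_hvEquiv I n
      refine ⟨fun a b => ?_⟩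
      have h3 : ∀ x : (localCohomology.{u} I (n + 2)).obj (ModuleCat.of B M), x = 0 := by
        intro x
        have h4 := h2 n ((e (ModuleCat.of B M)).symm x)
        rw [AddEquiv.symm_apply_eq, map_zero] at h4
        exact h4
      exact (h3 a).trans (h3 b).symm
  exact not_subsingleton _ key

end Alg

section Geom

open Groth.Agent.Localalg.DeltaFun Groth.Agent.Localalg.Gam Groth.Agent.Localalg.LCAbs
open Groth.Agent.FormalA.HUBasic Groth.Agent.FormalA.TildeAb Groth.Agent.Localalg.HSupp
open Groth.Agent.Localalg.HVLC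

attribute [local instance 3000] hasSheafify hasExt

variable {B : Type u} [CommRing B]

theorem mem_support_tilde_iff (M : ModuleCat.{u} B) (y : PrimeSpectrum B) :
    (show Spec (CommRingCat.of B) from y) ∈ CohB1.support (tilde (R := CommRingCat.of B) M) ↔
      y ∈ Module.support B M := by
  rw [← not_iff_not, Module.notMem_support_iff']
  refine Iff.trans ?_ (Groth.Agent.PerfA.TildeSupp.isZero_stalk_tilde_iff (R := CommRingCat.of B) M y)
  change ¬ ¬ _ ↔ _
  rw [not_not]
  constructor
  · intro h
    exact @AddCommGrpCat.isZero_of_subsingleton _ h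
  · intro h
    exact AddCommGrpCat.subsingleton_of_isZero h

theorem support_congr {X : Scheme.{u}} {M N : X.Modules} (e : M ≅ N) : CohB1.support M = CohB1.support N := by
  ext x
  change ¬ _ ↔ ¬ _
  rw [not_iff_not]
  have e1 := (TopCat.Presheaf.stalkFunctor AddCommGrpCat.{u} x).mapIso ((Scheme.Modules.toPresheaf X).mapIso e)
  exact e1.addCommGroupIsoToAddEquiv.toEquiv.subsingleton_congr

variable {V : Scheme.{u}} (j : V ⟶ Spec (CommRingCat.of B)) [IsOpenImmersion j]

theorem bijective_map_push {X V : Scheme.{u}} (j : V ⟶ X) (K : V.Modules) {U W : X.Opens} (i : U ⟶ W)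
    (h : j ⁻¹ᵁ U = j ⁻¹ᵁ W) :
    Function.Bijective (((Scheme.Modules.pushforward j).obj K).presheaf.map i.op) := by
  have h1 : IsIso ((Opens.map j.base).map i) := by
    have h2 : (Opens.map j.base).map i = eqToHom h := Subsingleton.elim _ _
    rw [h2]
    infer_instance
  have h3 : IsIso (K.presheaf.map ((Opens.map j.base).map i).op) := inferInstance
  exact ConcreteCategory.bijective_of_isIso (K.presheaf.map ((Opens.map j.base).map i).op)

theorem secRes_bijective (K : V.Modules) (M : ModuleCat.{u} B)
    (e : (Scheme.Modules.pushforward j).obj K ≅ tilde (R := CommRingCat.of B) M) :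
    Function.Bijective (secRes M (le_top : j.opensRange ≤ ⊤)) := by
  have h1 := bijective_map_push j K (homOfLE (le_top : j.opensRange ≤ ⊤)) (by
    ext x
    simp)
  have h2 : ∀ (U : (Spec (CommRingCat.of B)).Opens), Function.Bijective (e.hom.app U) := fun U =>
    ConcreteCategory.bijective_of_isIso (e.hom.app U)
  have h3 : ∀ x, e.hom.app j.opensRange (((Scheme.Modules.pushforward j).obj K).presheaf.map
      (homOfLE (le_top : j.opensRange ≤ ⊤)).op x) = secRes M (le_top : j.opensRange ≤ ⊤) (e.hom.app ⊤ x) := by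
    intro x
    have := e.hom.mapPresheaf.naturality (homOfLE (le_top : j.opensRange ≤ ⊤)).op
    exact congrArg (fun t => t.hom x) this
  have h4 : (secRes M (le_top : j.opensRange ≤ ⊤) : _ → _) ∘ (e.hom.app ⊤ : _ → _) =
      (e.hom.app j.opensRange : _ → _) ∘ (((Scheme.Modules.pushforward j).obj K).presheaf.map
      (homOfLE (le_top : j.opensRange ≤ ⊤)).op : _ → _) := by
    funext x
    exact (h3 x).symm
  have h5 := (h2 j.opensRange).comp h1
  rw [← h4] at h5
  exact (Function.Bijective.of_comp_iff _ (h2 ⊤)).1 h5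

theorem isClosed_range_aux [IsNoetherianRing B] (K : V.Modules) (M : ModuleCat.{u} B) [Module.Finite B M]
    (e : (Scheme.Modules.pushforward j).obj K ≅ tilde (R := CommRingCat.of B) M)
    (hs : CohB1.support K = Set.univ) (hH : ∀ n : ℕ, Subsingleton (Coh.HH V K (n + 1))) :
    IsClosed (Set.range j) := by
  obtain ⟨I, hI⟩ := (PrimeSpectrum.isClosed_iff_zeroLocus_ideal ((Set.range j)ᶜ)).1
    (j.opensRange.isOpen.isClosed_compl)
  have hU : j.opensRange = LocCoh.puncturedOpen B I := by
    ext x
    change x ∈ Set.range j ↔ x ∈ (PrimeSpectrum.zeroLocus (I : Set B))ᶜ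
    rw [← hI, compl_compl]
    exact Iff.rfl
  have eK : (tilde (R := CommRingCat.of B) M).restrict j ≅ K :=
    (Scheme.Modules.restrictFunctor j).mapIso e.symm ≪≫ Groth.Agent.Flat2B.ExtZero.restrictPushIso j K
  have h01 : Function.Bijective (toSec M (LocCoh.puncturedOpen B I)) := by
    rw [← hU]
    have h1 := (secRes_bijective j K M e).comp (toSec_top_bijective M)
    have h2 : (secRes M (le_top : j.opensRange ≤ ⊤) : _ → _) ∘ (toSec M ⊤ : _ → _) =
        (toSec M j.opensRange : _ → _) := by
      funext m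
      exact toSec_res_apply M _ m
    rwa [h2] at h1
  have h2 : ∀ (n : ℕ) (x : E ((tAb B).obj M) (n + 1) (LocCoh.puncturedOpen B I)), x = 0 := by
    intro n x
    have e1 := Groth.Agent.CohqA.HOpen.HHEquiv j (tilde (R := CommRingCat.of B) M)
      (LocCoh.puncturedOpen B I) (by rw [← hU]; exact (Scheme.Hom.image_top_eq_opensRange j).symm) (n + 1)
    have e2 : Subsingleton (Coh.HH V ((tilde (R := CommRingCat.of B) M).restrict j) (n + 1)) :=
      Groth.Agent.Gaga.H883.Serre.HH_congr eK.symm (n + 1) (hH n)
    have e3 := e1.toEquiv.subsingleton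
    exact Subsingleton.elim (α := CohTop.HU (X := (Spec (CommRingCat.of B)).toTopCat)
      (Coh.toAb (tilde (R := CommRingCat.of B) M)) (n + 1) (LocCoh.puncturedOpen B I)) x 0
  have hsub : Set.range j = Module.support B M := by
    refine Set.Subset.antisymm ?_ ?_
    · rintro _ ⟨y, rfl⟩
      refine (mem_support_tilde_iff M (j y)).1 ?_
      have h3 : y ∈ CohB1.support ((tilde (R := CommRingCat.of B) M).restrict j) := by
        rw [support_congr eK, hs]
        exact Set.mem_univ y
      intro h4
      exact h3 ((Groth.Agent.CohqA.FTStalk.subsingleton_stalk_restrict_iff j _ y).2 h4)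
    · intro p hp
      by_contra hp'
      have h3 : p ∈ PrimeSpectrum.zeroLocus (I : Set B) := by
        rw [← hI]
        exact hp'
      exact notMem_support I M h01.1 h01.2 h2 p h3 hp
  rw [hsub]
  exact Module.isClosed_support

end Geom

section Main

open Groth.Agent

theorem finite_of_semilinear {A B M N : Type*} [CommRing A] [CommRing B] [AddCommGroup M] [AddCommGroup N]
    [Module A N] [Module B M] (f : A →+* B) (g : N ≃+ M) (h : ∀ a n, g (a • n) = f a • g n)
    [Module.Finite A N] : Module.Finite B M := by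
  let _ : Algebra A B := f.toAlgebra
  let _ : Module A M := Module.compHom M f
  have : IsScalarTower A B M := ⟨fun a b m => by
    change (f a * b) • m = f a • b • m
    rw [mul_smul]⟩
  let g' : N ≃ₗ[A] M := { g with map_smul' := h }
  have : Module.Finite A M := Module.Finite.equiv g'
  exact Module.Finite.of_restrictScalars_finite A B M

/-- A quasi-coherent direct image on an affine scheme which becomes coherent on a further direct image to an affine
scheme is coherent. -/
theorem isCoh_push_of_comp {V T X : Scheme.{u}} (j : V ⟶ T) (π : T ⟶ X) [IsAffine T] (K : V.Modules)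
    (hq : Coh.IsQCoh ((Scheme.Modules.pushforward j).obj K))
    (hfin : Module.Finite Γ(X, ⊤) Γ((Scheme.Modules.pushforward (j ≫ π)).obj K, ⊤)) :
    Coh.IsCoh ((Scheme.Modules.pushforward j).obj K) := by
  refine ⟨hq, ?_⟩
  have : Coh.IsQCoh ((Scheme.Modules.pushforward j).obj K) := hq
  refine CohqB.FiniteType2.isFT_of_finite_sections _ fun x => ⟨⊤, trivial, isAffineOpen_top _, ?_⟩
  have := hfin
  exact finite_of_semilinear (A := Γ(X, ⊤)) (N := Γ((Scheme.Modules.pushforward (j ≫ π)).obj K, ⊤))
    (π.app ⊤).hom (AddEquiv.refl _) (fun a n => rfl)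

theorem isFinite_affine {V X : Scheme.{u}} (f : V ⟶ X) [IsAffine X] [IsNoetherian X] [LocallyQuasiFinite f]
    [LocallyOfFiniteType f] [QuasiCompact f] [IsSeparated f] (K : V.Modules) (hK : Coh.IsQCoh K)
    (hs : CohB1.support K = Set.univ)
    (hfin : Module.Finite Γ(X, ⊤) Γ((Scheme.Modules.pushforward f).obj K, ⊤))
    (hH : ∀ n : ℕ, Subsingleton (Coh.HH V K (n + 1))) : IsFinite f := by
  obtain ⟨B, _, j, π, hj, hjq, hπ, rfl⟩ : ∃ (B : Type u) (_ : CommRing B) (j : V ⟶ Spec (CommRingCat.of B))
      (π : Spec (CommRingCat.of B) ⟶ X), IsOpenImmersion j ∧ QuasiCompact j ∧ IsFinite π ∧ j ≫ π = f := by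
    obtain ⟨T, j, π, hj, hjq, hπ, rfl⟩ := Groth.Agent.S0385.result f
    have : IsAffine T := isAffine_of_isAffineHom π
    refine ⟨Γ(T, ⊤), inferInstance, j ≫ T.isoSpec.hom, T.isoSpec.inv ≫ π, inferInstance, inferInstance,
      inferInstance, ?_⟩
    rw [Category.assoc, Iso.hom_inv_id_assoc]
  have h1 : IsLocallyNoetherian (Spec (CommRingCat.of B)) := LocallyOfFiniteType.isLocallyNoetherian π
  have h2 : IsNoetherianRing B := isLocallyNoetherian_Spec.1 h1
  have hP := isCoh_push_of_comp j π K (Ega3B.DevQC.isQCoh_push j hK) hfin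
  obtain ⟨M, ⟨e⟩⟩ := S2310.exists_tilde_iso _ hP.1
  have hM : Module.Finite B M := Ega1.FTAffine.finite_of_isFiniteType M e hP.2
  have h3 := isClosed_range_aux j K M e hs hH
  have h4 : IsClosedImmersion j := IsClosedImmersion.of_isPreimmersion j h3
  infer_instance

theorem main {V X : Scheme.{u}} [IsNoetherian V] [IsNoetherian X] (f : V ⟶ X)
    [LocallyQuasiFinite f] [LocallyOfFiniteType f] [QuasiCompact f] [IsSeparated f]
    [HasInjectiveResolutions V.Modules]
    (K : V.Modules) (hK : Coh.IsCoh K) (hsupp : CohB1.support K = Set.univ)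
    (hpush : Coh.IsCoh ((Coh.push f).obj K))
    (hvan : ∀ q : ℕ, 0 < q → IsZero ((Coh.Rpush f q).obj K)) : IsFinite f := by
  rw [IsZariskiLocalAtTarget.iff_of_iSup_eq_top (P := @IsFinite) (fun W : X.affineOpens => (W : X.Opens))
    (iSup_affineOpens_eq_top X)]
  rintro ⟨W, hW⟩
  have : IsAffine W := hW
  have : IsLocallyNoetherian W := isLocallyNoetherian_of_isOpenImmersion W.ι
  have : IsNoetherian W := {}
  have h1 : LocallyQuasiFinite (f ∣_ W) := inferInstance
  have hc : Coh.IsCoh ((Scheme.Modules.pushforward (f ∣_ W)).obj (K.restrict (f ⁻¹ᵁ W).ι)) :=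
    Ega3B.DevQC.isCoh_of_iso ((PerfC.PushRestrict.pushforwardRestrictIso f W).app K)
      (CohqB.LocalQC.isCoh_restrict W.ι hpush)
  refine isFinite_affine (f ∣_ W) (K.restrict (f ⁻¹ᵁ W).ι) (CohqB.LocalQC.isCoh_restrict _ hK).1 ?_
    (Ega3B.DevQC.finite_sections hc (isAffineOpen_top _)) ?_
  · ext x
    simp only [Set.mem_univ, iff_true]
    intro h
    have h2 : (f ⁻¹ᵁ W).ι x ∈ CohB1.support K := by rw [hsupp]; exact Set.mem_univ _
    exact h2 ((Groth.Agent.CohqA.FTStalk.subsingleton_stalk_restrict_iff (f ⁻¹ᵁ W).ι K x).1 h)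
  · intro n
    exact Gaga.H883.SerreRel.subsingleton_HHon_of_isZero f K hK.1 (n + 1)
      ((Ega3B.RpushAbCmp.isZero_RpushAb_iff f K (n + 1)).2 (hvan (n + 1) (Nat.succ_pos n))) W hW

end Main

end K135.FinAcyc
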